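import Cfsg.Prelude.Def_IsolatedElements
import Cfsg.Agent.Eq.Def_IsolatedElements
import Cfsg.Agent.LocalP.AxB
import Mathlib.GroupTheory.Transfer
import Mathlib.GroupTheory.SpecificGroups.Cyclic

/-!
Elementary facts about isolated elements of prime power order.
-/

set_option autoImplicit false

namespace CfsgLib.LocalP

variable {G : Type*} [Group G] [Finite G] {p : ℕ} [Fact p.Prime] {x : G}

omit [Finite G] [Fact p.Prime] in
theorem isPGroup_zpowers_of_orderOf (hx : ∃ k : ℕ, orderOf x = p ^ k) :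
    IsPGroup p (Subgroup.zpowers x) := by
  obtain ⟨k, hk⟩ := hx
  exact IsPGroup.of_card (n := k) (by rw [Nat.card_zpowers, hk])

/-- An isolated element is central in every p-subgroup containing it. -/
theorem isolated_commute_of_mem (hiso : Cfsg.IsIsolated x) {R : Subgroup G} (hR : IsPGroup p R)
    (hxR : x ∈ R) : ∀ u ∈ R, x * u = u * x := by
  set D : Subgroup G := R ⊓ Subgroup.centralizer {x} with hD
  by_cases hDR : D = R
  · intro u hu
    rw [← hDR] at hu
    exact Subgroup.mem_centralizer_iff.mp hu.2 x rfl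
  exfalso
  obtain ⟨r, hrR, hrN, hrD⟩ := exists_normalizes_not_mem hR inf_le_left hDR
  have hxD : x ∈ D := ⟨hxR, Subgroup.mem_centralizer_singleton_iff.mpr rfl⟩
  have h : r * x * r⁻¹ ∈ D := (Subgroup.mem_normalizer_iff.mp hrN x).mp hxD
  have heq := hiso r (Subgroup.mem_centralizer_iff.mp h.2 x rfl)
  refine hrD ⟨hrR, Subgroup.mem_centralizer_singleton_iff.mpr ?_⟩
  calc r * x = r * x * r⁻¹ * r := by group
    _ = x * r := by rw [heq]

/-- A conjugate of an isolated element lying with it in a p-subgroup equals it. -/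
theorem isolated_eq_of_mem (hiso : Cfsg.IsIsolated x) {R : Subgroup G} (hR : IsPGroup p R)
    (hxR : x ∈ R) {g : G} (hg : g * x * g⁻¹ ∈ R) : g * x * g⁻¹ = x :=
  hiso g (isolated_commute_of_mem hiso hR hxR _ hg)

/-- Fusion control: conjugates of an isolated p-element inside `H` are `H`-conjugate to it. -/
theorem isolated_conj_in (hiso : Cfsg.IsIsolated x) (hx : ∃ k : ℕ, orderOf x = p ^ k) (H : Subgroup G)
    (hxH : x ∈ H) {g : G} (hg : g * x * g⁻¹ ∈ H) : ∃ h ∈ H, h * (g * x * g⁻¹) * h⁻¹ = x := by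
  have hy : ∃ k : ℕ, orderOf (g * x * g⁻¹) = p ^ k := by
    obtain ⟨k, hk⟩ := hx
    exact ⟨k, by rw [← hk]; exact MulEquiv.orderOf_eq (MulAut.conj g) x⟩
  have hx1 : IsPGroup p ((Subgroup.zpowers x).subgroupOf H) :=
    (isPGroup_zpowers_of_orderOf hx).comap_of_injective H.subtype H.subtype_injective
  have hy1 : IsPGroup p ((Subgroup.zpowers (g * x * g⁻¹)).subgroupOf H) :=
    (isPGroup_zpowers_of_orderOf hy).comap_of_injective H.subtype H.subtype_injective
  obtain ⟨P, hP⟩ := hx1.exists_le_sylow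
  obtain ⟨Q, hQ⟩ := hy1.exists_le_sylow
  obtain ⟨h, hh⟩ := MulAction.exists_smul_eq ↥H Q P
  refine ⟨h, h.2, ?_⟩
  have hyQ : (⟨g * x * g⁻¹, hg⟩ : ↥H) ∈ (Q : Subgroup ↥H) :=
    hQ (Subgroup.mem_subgroupOf.mpr (Subgroup.mem_zpowers _))
  have hxP : (⟨x, hxH⟩ : ↥H) ∈ (P : Subgroup ↥H) :=
    hP (Subgroup.mem_subgroupOf.mpr (Subgroup.mem_zpowers _))
  have hmem : h * ⟨g * x * g⁻¹, hg⟩ * h⁻¹ ∈ (P : Subgroup ↥H) := by
    rw [← hh]
    exact ⟨_, hyQ, rfl⟩
  have e1 : x ∈ (P : Subgroup ↥H).map H.subtype := ⟨_, hxP, rfl⟩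
  have e2 : ((h : G) * g) * x * ((h : G) * g)⁻¹ ∈ (P : Subgroup ↥H).map H.subtype :=
    ⟨_, hmem, by simp [mul_assoc]⟩
  have e3 := isolated_eq_of_mem hiso (P.isPGroup'.map H.subtype) e1 e2
  simpa [mul_assoc] using e3

/-- The image of an isolated p-element in a quotient is isolated. -/
theorem isolated_quotient (hiso : Cfsg.IsIsolated x) (hx : ∃ k : ℕ, orderOf x = p ^ k)
    (N : Subgroup G) [N.Normal] : Cfsg.IsIsolated (QuotientGroup.mk x : G ⧸ N) := by
  intro a ha
  obtain ⟨g, rfl⟩ := QuotientGroup.mk_surjective a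
  let H : Subgroup G := (Subgroup.centralizer {(QuotientGroup.mk x : G ⧸ N)}).comap (QuotientGroup.mk' N)
  have hxH : x ∈ H := Subgroup.mem_centralizer_singleton_iff.mpr rfl
  have hgH : g * x * g⁻¹ ∈ H := Subgroup.mem_centralizer_singleton_iff.mpr
    (by simpa using ha.eq.symm)
  obtain ⟨h, hh, he⟩ := isolated_conj_in hiso hx H hxH hgH
  have h' : (h : G ⧸ N) * (x : G ⧸ N) = (x : G ⧸ N) * (h : G ⧸ N) :=
    Subgroup.mem_centralizer_singleton_iff.mp hh
  have he' : (h : G ⧸ N) * ((g : G ⧸ N) * x * (g : G ⧸ N)⁻¹) * (h : G ⧸ N)⁻¹ = x := by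
    simpa using congrArg (QuotientGroup.mk : G → G ⧸ N) he
  calc (g : G ⧸ N) * x * (g : G ⧸ N)⁻¹
      = (h : G ⧸ N)⁻¹ * ((h : G ⧸ N) * ((g : G ⧸ N) * x * (g : G ⧸ N)⁻¹) * (h : G ⧸ N)⁻¹) * h := by
        group
    _ = (h : G ⧸ N)⁻¹ * ((x : G ⧸ N) * h) := by rw [he']; group
    _ = (h : G ⧸ N)⁻¹ * ((h : G ⧸ N) * x) := by rw [h']
    _ = x := by group

/-- An element of order prime to p normalizing a cyclic p-group and fixing a nontrivial element of it
centralizes it. -/
theorem commute_of_cyclic {P : Subgroup G} (hP : IsPGroup p P) (hc : IsCyclic ↥P) (hxP : x ∈ P)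
    (hx1 : x ≠ 1) {g : G} (hg : g ∈ Subgroup.normalizer (P : Set G)) (hcop : (orderOf g).Coprime p)
    (hgx : g * x = x * g) : ∀ v ∈ P, g * v = v * g := by
  suffices h : ∀ n : ℕ, ∀ v ∈ P, v ^ (p ^ n) = 1 → g * v = v * g by
    intro v hv
    obtain ⟨n, hn⟩ := hP ⟨v, hv⟩
    exact h n v hv (by simpa [Subtype.ext_iff] using hn)
  intro n
  induction n with
  | zero => intro v _ h; simp_all
  | succ n ih =>
    intro v hv hpow
    have hvp : g * v ^ p = v ^ p * g :=
      ih _ (pow_mem hv p) (by rw [← pow_mul, ← pow_succ']; exact hpow)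
    have hgv : g * v * g⁻¹ ∈ P := (Subgroup.mem_normalizer_iff.mp hg v).mp hv
    set y := g * v * g⁻¹ * v⁻¹ with hy
    have hyP : y ∈ P := mul_mem hgv (inv_mem hv)
    obtain ⟨u, hu⟩ := hc.exists_generator
    have hcomm : ∀ a ∈ P, ∀ b ∈ P, a * b = b * a := by
      intro a ha b hb
      obtain ⟨i, hi⟩ := Subgroup.mem_zpowers_iff.mp (hu ⟨a, ha⟩)
      obtain ⟨j, hj⟩ := Subgroup.mem_zpowers_iff.mp (hu ⟨b, hb⟩)
      have := congrArg Subtype.val ((Commute.zpow_zpow (Commute.refl u) i j).eq)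
      rw [hi, hj] at this
      exact this
    have hyp : y ^ p = 1 := by
      have h1 : Commute (g * v * g⁻¹) v⁻¹ := hcomm _ hgv _ (inv_mem hv)
      rw [hy, h1.mul_pow, conj_pow, inv_pow, hvp]
      group
    have hyz : y ∈ Subgroup.zpowers x := by
      classical
      haveI := Fintype.ofFinite ↥P
      set n := orderOf (⟨x, hxP⟩ : ↥P) with hn
      have hle := IsCyclic.card_pow_eq_one_le (α := ↥P) (orderOf_pos (⟨x, hxP⟩ : ↥P))
      have hsub : (Subgroup.zpowers (⟨x, hxP⟩ : ↥P) : Set ↥P).toFinset ⊆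
          (Finset.univ.filter fun a : ↥P => a ^ n = 1) := by
        intro a ha
        simp only [Set.mem_toFinset, SetLike.mem_coe] at ha
        obtain ⟨i, rfl⟩ := Subgroup.mem_zpowers_iff.mp ha
        rw [Finset.mem_filter]
        refine ⟨Finset.mem_univ _, ?_⟩
        rw [← zpow_natCast, ← zpow_mul, mul_comm, zpow_mul, zpow_natCast, hn, pow_orderOf_eq_one,
          one_zpow]
      have heq := Finset.eq_of_subset_of_card_le hsub (le_trans hle (le_of_eq (by
        rw [Set.toFinset_card, ← Nat.card_eq_fintype_card]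
        exact (Nat.card_zpowers _).symm)))
      have hyn : (⟨y, hyP⟩ : ↥P) ^ n = 1 := by
        obtain ⟨k, hk⟩ := hP.exists_orderOf_eq_pow ⟨x, hxP⟩
        have hk0 : k ≠ 0 := by
          rintro rfl
          exact hx1 (by simpa [orderOf_eq_one_iff, Subtype.ext_iff] using hk)
        obtain ⟨k, rfl⟩ := Nat.exists_eq_succ_of_ne_zero hk0
        rw [hn, hk, pow_succ', pow_mul]
        apply Subtype.ext
        simp [hyp]
      have : (⟨y, hyP⟩ : ↥P) ∈ Subgroup.zpowers (⟨x, hxP⟩ : ↥P) := by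
        have hmem : (⟨y, hyP⟩ : ↥P) ∈ (Finset.univ.filter fun a : ↥P => a ^ n = 1) :=
          Finset.mem_filter.mpr ⟨Finset.mem_univ _, hyn⟩
        rw [← heq] at hmem
        simpa using hmem
      obtain ⟨i, hi⟩ := Subgroup.mem_zpowers_iff.mp this
      exact Subgroup.mem_zpowers_iff.mpr ⟨i, by simpa [Subtype.ext_iff] using hi⟩
    have hgy : g * y = y * g := by
      obtain ⟨i, hi⟩ := Subgroup.mem_zpowers_iff.mp hyz
      rw [← hi]
      exact (Commute.zpow_right hgx i)
    exact CfsgLib.Coprime.commute_of_commute_commutator hgy (coprime_orderOf_of_mem hP hyP hcop)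

/-- Burnside step: an isolated nontrivial p-element in a group with cyclic Sylow p-subgroup. -/
theorem isolated_normalizer_le_centralizer (hiso : Cfsg.IsIsolated x) (P : Sylow p G)
    (hc : IsCyclic ↥(P : Subgroup G)) (hxP : x ∈ (P : Subgroup G)) (hx1 : x ≠ 1) :
    Subgroup.normalizer ((P : Subgroup G) : Set G) ≤ Subgroup.centralizer ((P : Subgroup G) : Set G) := by
  intro g hg
  have hgx : g * x = x * g := by
    have := isolated_eq_of_mem hiso P.isPGroup' hxP ((Subgroup.mem_normalizer_iff.mp hg x).mp hxP)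
    calc g * x = g * x * g⁻¹ * g := by group
      _ = x * g := by rw [this]
  obtain ⟨a, m, hm, ham⟩ :=
    Nat.exists_eq_pow_mul_and_not_dvd (orderOf_pos g).ne' p (Fact.out : p.Prime).ne_one
  have hm' : m.Coprime p := ((Fact.out : p.Prime).coprime_iff_not_dvd.mpr hm).symm
  -- p'-part
  have h1 : g ^ (p ^ a) ∈ Subgroup.centralizer ((P : Subgroup G) : Set G) := by
    have hcop : (orderOf (g ^ (p ^ a))).Coprime p := by
      apply hm'.coprime_dvd_left
      apply orderOf_dvd_of_pow_eq_one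
      rw [← pow_mul, ← ham, pow_orderOf_eq_one]
    exact Subgroup.mem_centralizer_iff.mpr fun v hv =>
      (commute_of_cyclic P.isPGroup' hc hxP hx1 (pow_mem hg _) hcop (Commute.pow_left hgx _) v hv).symm
  -- p-part
  have h2 : g ^ m ∈ Subgroup.centralizer ((P : Subgroup G) : Set G) := by
    haveI : IsMulCommutative ↥(P : Subgroup G) := by
      letI := hc.commGroup
      exact ⟨⟨fun a b => mul_comm a b⟩⟩
    refine Subgroup.le_centralizer _ ?_
    have hR : IsPGroup p ((P : Subgroup G) ⊔ Subgroup.zpowers (g ^ m) : Subgroup G) := by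
      apply P.isPGroup'.to_sup_of_normal_left' _ (Subgroup.zpowers_le.mpr (pow_mem hg m))
      apply isPGroup_zpowers_of_orderOf
      have hd : orderOf (g ^ m) ∣ p ^ a := by
        apply orderOf_dvd_of_pow_eq_one
        rw [← pow_mul, mul_comm, ← ham, pow_orderOf_eq_one]
      obtain ⟨k, _, hk⟩ := (Nat.dvd_prime_pow Fact.out).mp hd
      exact ⟨k, hk⟩
    exact (P.is_maximal' hR le_sup_left) ▸ Subgroup.mem_sup_right (Subgroup.mem_zpowers _)
  have hb := Nat.gcd_eq_gcd_ab (p ^ a) m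
  rw [Nat.coprime_iff_gcd_eq_one.mp (hm'.symm.pow_left a)] at hb
  have : g = (g ^ (p ^ a)) ^ ((p ^ a).gcdA m) * (g ^ m) ^ ((p ^ a).gcdB m) := by
    rw [← zpow_natCast g, ← zpow_natCast g m, ← zpow_mul, ← zpow_mul, ← zpow_add, ← hb]
    simp
  rw [this]
  exact mul_mem (zpow_mem h1 _) (zpow_mem h2 _)

end CfsgLib.LocalP
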